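import Groth.Agent.ExtZeroVanLib.Val
import Groth.Agent.CohColim.CompactOpens
import Groth.Agent.CohColim.General
import Groth.Agent.CohBase.Basic

/-!
# Vanishing of cohomology from vanishing on extensions by zero
-/

set_option autoImplicit false
set_option linter.style.haveILetI false
set_option linter.unusedSectionVars false
set_option backward.isDefEq.respectTransparency false
set_option backward.isDefEq.respectTransparency.types false
universe u

open CategoryTheory Limits Opposite TopologicalSpace Abelian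

namespace Groth.Agent.ExtZeroVan

noncomputable section

attribute [local instance] Abelian.hasFiniteBiproducts

variable {X : TopCat.{u}} (d : ℕ)

/-- Vanishing of cohomology above `d`. -/
def Good (F : CohTop.Ab X) : Prop := ∀ p, d < p → Subsingleton (CohTop.H F p)

theorem good_of_isZero {F : CohTop.Ab X} (h : IsZero F) : Good d F :=
  fun p _ => Sheaf.subsingleton_H_of_isZero h p

theorem good_of_iso {F G : CohTop.Ab X} (e : F ≅ G) (h : Good d F) : Good d G := fun p hp => by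
  haveI := h p hp
  refine ⟨fun x y => ?_⟩
  have hxy := Subsingleton.elim (Sheaf.H.map e.inv p x) (Sheaf.H.map e.inv p y)
  have := congrArg (Sheaf.H.map e.hom p) hxy
  rwa [← Sheaf.H.map_comp_apply, ← Sheaf.H.map_comp_apply, e.inv_hom_id, Sheaf.H.map_id_apply,
    Sheaf.H.map_id_apply] at this

theorem good_X₃ {S : ShortComplex (CohTop.Ab X)} (hS : S.ShortExact) (h₁ : Good d S.X₁)
    (h₂ : Good d S.X₂) : Good d S.X₃ := fun p hp => by
  haveI := h₁ (p + 1) (by omega)
  haveI := h₂ p hp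
  refine subsingleton_of_forall_eq 0 fun x => ?_
  obtain ⟨y, rfl⟩ := Ext.covariant_sequence_exact₃ _ hS x rfl (Subsingleton.elim _ _)
  rw [Subsingleton.elim y 0, Ext.zero_comp]

theorem good_X₂ {S : ShortComplex (CohTop.Ab X)} (hS : S.ShortExact) (h₁ : Good d S.X₁)
    (h₃ : Good d S.X₃) : Good d S.X₂ := fun p hp => by
  haveI := h₁ p hp
  haveI := h₃ p hp
  refine subsingleton_of_forall_eq 0 fun x => ?_
  obtain ⟨y, rfl⟩ := Ext.covariant_sequence_exact₂ _ hS x (Subsingleton.elim _ _)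
  rw [Subsingleton.elim y 0, Ext.zero_comp]

theorem good_biprod {A B : CohTop.Ab X} (hA : Good d A) (hB : Good d B) : Good d (A ⊞ B) :=
  fun p hp => by
  haveI := hA p hp
  haveI := hB p hp
  refine subsingleton_of_forall_eq 0 fun x => ?_
  rw [← Ext.comp_mk₀_id x, ← biprod.total, Ext.mk₀_add, Ext.comp_add, ← Ext.mk₀_comp_mk₀,
    ← Ext.mk₀_comp_mk₀, ← Ext.comp_assoc_of_second_deg_zero, ← Ext.comp_assoc_of_second_deg_zero,
    Subsingleton.elim (x.comp (Ext.mk₀ biprod.fst) (add_zero p)) 0,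
    Subsingleton.elim (x.comp (Ext.mk₀ biprod.snd) (add_zero p)) 0, Ext.zero_comp, Ext.zero_comp,
    add_zero]

theorem good_biproduct {ι : Type u} [Fintype ι] (G : ι → CohTop.Ab X) (h : ∀ i, Good d (G i)) :
    Good d (⨁ G) := fun p hp => by
  refine subsingleton_of_forall_eq 0 fun x => ?_
  rw [← Ext.comp_mk₀_id x, show 𝟙 (⨁ G) = ∑ i, biproduct.π G i ≫ biproduct.ι G i from
    (IsBilimit.total (biproduct.isBilimit G)).symm, Ext.mk₀_sum, Ext.comp_sum]
  refine Finset.sum_eq_zero fun i _ => ?_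
  haveI := h i p hp
  rw [← Ext.mk₀_comp_mk₀, ← Ext.comp_assoc_of_second_deg_zero,
    Subsingleton.elim (x.comp (Ext.mk₀ (biproduct.π G i)) (add_zero p)) 0, Ext.zero_comp]

/-- The sequence presenting an image. -/
theorem shortExact_image {A B : CohTop.Ab X} (f : A ⟶ B) :
    (ShortComplex.mk (kernel.ι f) (Abelian.factorThruImage f) (by
      rw [← cancel_mono (Abelian.image.ι f), Category.assoc, Abelian.image.fac, kernel.condition,
        zero_comp])).ShortExact := by
  refine { exact := ShortComplex.exact_of_f_is_kernel _ (KernelFork.IsLimit.ofι' _ _ ?_) }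
  intro T k hk
  have hk' : k ≫ f = 0 := by rw [← Abelian.image.fac f, reassoc_of% hk, zero_comp]
  exact ⟨kernel.lift f k hk', kernel.lift_ι f k hk'⟩

section Sub

variable (U : Opens X)

/-- Indices of the elementary subsheaves of `ℤ_U`. -/
abbrev Gen : Type u := {j : ℕ × Opens X // 0 < j.1 ∧ j.2 ≤ U ∧ IsCompact (j.2 : Set X)}

variable {U}

/-- The subsheaf `n ℤ_V`. -/
def gmap (j : Gen U) : Z j.1.2 ⟶ Z U :=
  (j.1.1 : ℤ) • (SiteBase.secEquiv j.1.2 (Z U)).symm ((Z U).obj.map (homOfLE j.2.2.1).op (unit U))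

/-- The values of `n ℤ_V`. -/
def gval (j : Gen U) (x : X) : AddSubgroup ℤ where
  carrier := {z | (j.1.1 : ℤ) ∣ z ∧ (x ∉ j.1.2 → z = 0)}
  zero_mem' := ⟨dvd_zero _, fun _ => rfl⟩
  add_mem' := fun ha hb => ⟨dvd_add ha.1 hb.1, fun h => by rw [ha.2 h, hb.2 h, add_zero]⟩
  neg_mem' := fun ha => ⟨dvd_neg.2 ha.1, fun h => by rw [ha.2 h, neg_zero]⟩

theorem ev_gmap (j : Gen U) {W : Opens X} {x : X} (hx : x ∈ W)
    (s : (Z j.1.2).obj.obj (op W)) :
    ev hx ((gmap j).hom.app (op W) s) = (j.1.1 : ℤ) * ev hx s := by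
  let ι := (SiteBase.secEquiv j.1.2 (Z U)).symm ((Z U).obj.map (homOfLE j.2.2.1).op (unit U))
  have e : ι ≫ ψ U = ψ j.1.2 := by
    apply (SiteBase.secEquiv j.1.2 funSh).injective
    rw [SiteBase.secEquiv_comp, Equiv.apply_symm_apply, NatTrans.naturality_apply]
    have hu : (ψ U).hom.app (op U) (unit U) = fun _ => ⟨1⟩ := by
      refine (SiteBase.secEquiv_comp U (𝟙 (Z U)) (ψ U)).symm.trans ?_
      erw [Category.id_comp]
      exact Equiv.apply_symm_apply (SiteBase.secEquiv U funSh) _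
    refine Eq.trans (congrArg (funSh.obj.map (homOfLE j.2.2.1).op) hu) ?_
    exact (Equiv.apply_symm_apply (SiteBase.secEquiv j.1.2 funSh) _).symm
  show ev hx (((j.1.1 : ℤ) • ι).hom.app (op W) s) = _
  have h1 : ((j.1.1 : ℤ) • ι).hom.app (op W) s = (j.1.1 : ℤ) • ι.hom.app (op W) s := rfl
  rw [h1, map_zsmul, smul_eq_mul]
  congr 1
  show (((ψ U).hom.app (op W) (ι.hom.app (op W) s) : W → ULift.{u} ℤ) ⟨x, hx⟩).down = _
  rw [← ConcreteCategory.comp_apply]
  exact congrArg (fun f : Z j.1.2 ⟶ funSh => ((f.hom.app (op W) s : W → ULift.{u} ℤ) ⟨x, hx⟩).down) e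

theorem val_gmap (j : Gen U) (x : X) : val U (gmap j) x = gval j x := by
  refine le_antisymm ?_ ?_
  · rintro _ ⟨W, hx, s, rfl⟩
    rw [ev_gmap]
    exact ⟨dvd_mul_right _ _, fun h => by rw [ev_eq_zero_of_not_mem hx h, mul_zero]⟩
  · rintro z ⟨⟨c, rfl⟩, hz⟩
    by_cases h : x ∈ j.1.2
    · exact ⟨j.1.2, h, c • unit j.1.2, by rw [ev_gmap, map_zsmul, ev_unit]; simp⟩
    · rw [hz h]
      exact zero_mem _

theorem mono_gmap (j : Gen U) : Mono (gmap j) := by
  refine Preadditive.mono_of_cancel_zero _ fun {A} g hg => ?_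
  ext W a
  refine eq_zero_of_ev _ fun x hx => ?_
  have h := congrArg (fun f : A ⟶ Z U => ev (U := U) hx (f.hom.app W a)) hg
  change ev hx ((gmap j).hom.app _ (g.hom.app W a)) = ev hx ((0 : A ⟶ Z U).hom.app W a) at h
  rw [ev_gmap] at h
  rcases mul_eq_zero.1 (h.trans (map_zero (ev hx))) with h | h
  · exact absurd h (by exact_mod_cast j.2.1.ne')
  · exact h

theorem val_biproduct_desc {ι : Type u} [Fintype ι] {G : ι → CohTop.Ab X} (g : ∀ i, G i ⟶ Z U)
    (x : X) : val U (biproduct.desc g) x = ⨆ i, val U (g i) x := by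
  refine le_antisymm ?_ (iSup_le fun i => ?_)
  · rintro _ ⟨W, hx, s, rfl⟩
    have e : biproduct.desc g = ∑ i, biproduct.π G i ≫ g i := by
      conv_lhs => rw [← Category.id_comp (biproduct.desc g),
        show 𝟙 (⨁ G) = ∑ i, biproduct.π G i ≫ biproduct.ι G i from
          (IsBilimit.total (biproduct.isBilimit G)).symm, Preadditive.sum_comp]
      simp only [Category.assoc, biproduct.ι_desc]
    let ev' : (⨁ G ⟶ Z U) →+ ℤ := AddMonoidHom.mk' (fun f => ev hx (f.hom.app (op W) s))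
      fun a b => (map_add (ev hx) _ _)
    show ev' (biproduct.desc g) ∈ _
    rw [e, map_sum]
    exact sum_mem fun i _ => AddSubgroup.mem_iSup_of_mem i ⟨W, hx, (biproduct.π G i).hom.app _ s, rfl⟩
  · rw [← biproduct.ι_desc g i]
    exact val_comp_le _ _ x

theorem val_biprod_desc {A B : CohTop.Ab X} (f : A ⟶ Z U) (g : B ⟶ Z U) (x : X) :
    val U (biprod.desc f g) x = val U f x ⊔ val U g x := by
  refine le_antisymm ?_ (sup_le ?_ ?_)
  · rintro _ ⟨W, hx, s, rfl⟩
    rw [biprod.desc_eq]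
    show ev hx ((biprod.fst ≫ f).hom.app (op W) s + (biprod.snd ≫ g).hom.app (op W) s) ∈ _
    rw [map_add]
    exact AddSubgroup.add_mem_sup ⟨W, hx, (biprod.fst : A ⊞ B ⟶ A).hom.app _ s, rfl⟩
      ⟨W, hx, (biprod.snd : A ⊞ B ⟶ B).hom.app _ s, rfl⟩
  · conv_lhs => rw [← biprod.inl_desc f g]
    exact val_comp_le _ _ x
  · conv_lhs => rw [← biprod.inr_desc f g]
    exact val_comp_le _ _ x

theorem val_image {A : CohTop.Ab X} (f : A ⟶ Z U) (x : X) :
    val U (Abelian.image.ι f) x = val U f x := by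
  refine le_antisymm ?_ ?_
  · have h := val_le_comp (Abelian.factorThruImage f) (Abelian.image.ι f) x
    rwa [Abelian.image.fac] at h
  · conv_lhs => rw [← Abelian.image.fac f]
    exact val_comp_le _ _ x

theorem biprod_desc_eq' {A B C : CohTop.Ab X} (f : A ⟶ C) (g : B ⟶ C) {T : CohTop.Ab X}
    (k : T ⟶ A ⊞ B) : k ≫ biprod.desc f g = (k ≫ biprod.fst) ≫ f + (k ≫ biprod.snd) ≫ g := by
  rw [biprod.desc_eq, Preadditive.comp_add, Category.assoc, Category.assoc]

/-- The values of the intersection of two images. -/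
theorem val_kernel_desc {A B : CohTop.Ab X} (f : A ⟶ Z U) (g : B ⟶ Z U) (x : X) :
    val U (kernel.ι (biprod.desc f g) ≫ biprod.fst ≫ f) x = val U f x ⊓ val U g x := by
  refine le_antisymm (le_inf ((val_comp_le _ _ x).trans (val_comp_le _ _ x)) ?_) ?_
  · have e : kernel.ι (biprod.desc f g) ≫ biprod.fst ≫ f =
        (-(kernel.ι (biprod.desc f g) ≫ biprod.snd)) ≫ g := by
      rw [Preadditive.neg_comp, eq_neg_iff_add_eq_zero, ← Category.assoc, ← biprod_desc_eq',
        kernel.condition]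
    rw [e]
    exact val_comp_le _ _ x
  · rintro z ⟨⟨W, hx, s, hs⟩, ⟨W', hx', t, ht⟩⟩
    obtain ⟨V, hV, hxV, e⟩ := exists_eq_of_ev (show x ∈ W ⊓ W' from ⟨hx, hx'⟩)
      ((Z U).obj.map (homOfLE inf_le_left).op (f.hom.app (op W) s))
      ((Z U).obj.map (homOfLE inf_le_right).op (g.hom.app (op W') t))
      (by rw [ev_res inf_le_left, ev_res inf_le_right]; exact hs.trans ht.symm)
    let s' := A.obj.map (homOfLE (hV.trans inf_le_left)).op s
    let t' := B.obj.map (homOfLE (hV.trans inf_le_right)).op t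
    have hst : f.hom.app (op V) s' = g.hom.app (op V) t' := by
      rw [NatTrans.naturality_apply, NatTrans.naturality_apply]
      have hm : ∀ {W₁ : Opens X} (h₁ : V ≤ W₁) {W₂ : Opens X} (h₂ : W₁ ≤ W₂)
          (r : (Z U).obj.obj (op W₂)), (Z U).obj.map (homOfLE h₁).op ((Z U).obj.map (homOfLE h₂).op r) =
            (Z U).obj.map (homOfLE (h₁.trans h₂)).op r := fun h₁ _ h₂ r => by
        rw [← ConcreteCategory.comp_apply, ← Functor.map_comp]
        rfl
      rw [hm, hm] at e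
      exact e
    let inl' : A ⟶ A ⊞ B := biprod.inl
    let inr' : B ⟶ A ⊞ B := biprod.inr
    let b := inl'.hom.app (op V) s' - inr'.hom.app (op V) t'
    have hb : (biprod.desc f g).hom.app (op V) b = 0 := by
      rw [map_sub]
      show (inl' ≫ biprod.desc f g).hom.app (op V) s' - (inr' ≫ biprod.desc f g).hom.app (op V) t' = 0
      rw [biprod.inl_desc, biprod.inr_desc, hst, sub_self]
    let Γ := sheafToPresheaf (Opens.grothendieckTopology X) AddCommGrpCat.{u} ⋙
      (evaluation _ _).obj (op V)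
    haveI : Γ.Additive := { map_add := rfl }
    have hker := (ShortComplex.exact_of_f_is_kernel
      (ShortComplex.mk (kernel.ι (biprod.desc f g)) (biprod.desc f g) (kernel.condition _))
        (kernelIsKernel _)).map_of_mono_of_preservesKernel Γ inferInstance inferInstance
    obtain ⟨w, hw⟩ := (ShortComplex.ab_exact_iff _).1 hker b hb
    refine ⟨V, hxV, w, ?_⟩
    have hw' : (kernel.ι (biprod.desc f g)).hom.app (op V) w = b := hw
    let fst' : A ⊞ B ⟶ A := biprod.fst
    have hfst : fst'.hom.app (op V) b = s' := by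
      rw [map_sub]
      show (inl' ≫ fst').hom.app (op V) s' - (inr' ≫ fst').hom.app (op V) t' = s'
      rw [biprod.inl_fst, biprod.inr_fst]
      exact sub_zero _
    show ev hxV (f.hom.app _ (fst'.hom.app _ ((kernel.ι (biprod.desc f g)).hom.app _ w))) = z
    rw [hw', hfst, NatTrans.naturality_apply, ev_res (hV.trans inf_le_left), hs]

theorem good_image_of_val_eq {A B : CohTop.Ab X} (f : A ⟶ Z U) (g : B ⟶ Z U)
    (h : ∀ x, val U f x = val U g x) (hg : Good d (Abelian.image g)) : Good d (Abelian.image f) := by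
  have h₁ : Abelian.image.ι g ≫ cokernel.π f = 0 :=
    comp_cokernel_eq_zero _ _ fun x => by rw [val_image, h]
  have h₂ : Abelian.image.ι f ≫ cokernel.π g = 0 :=
    comp_cokernel_eq_zero _ _ fun x => by rw [val_image, h]
  exact good_of_iso d
    { hom := kernel.lift _ _ h₁
      inv := kernel.lift _ _ h₂
      hom_inv_id := by rw [← cancel_mono (Abelian.image.ι g)]; simp
      inv_hom_id := by rw [← cancel_mono (Abelian.image.ι f)]; simp } hg

/-- The intersection of two elementary subsheaves. -/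
def inter [QuasiSeparatedSpace X] (j k : Gen U) : Gen U :=
  ⟨(Nat.lcm j.1.1 k.1.1, j.1.2 ⊓ k.1.2), Nat.lcm_pos j.2.1 k.2.1, inf_le_left.trans j.2.2.1,
    QuasiSeparatedSpace.inter_isCompact _ _ j.1.2.isOpen j.2.2.2 k.1.2.isOpen k.2.2.2⟩

theorem gval_inter [QuasiSeparatedSpace X] (j k : Gen U) (x : X) :
    gval (inter j k) x = gval j x ⊓ gval k x := by
  ext z
  show ((Nat.lcm j.1.1 k.1.1 : ℕ) : ℤ) ∣ z ∧ (¬(x ∈ j.1.2 ∧ x ∈ k.1.2) → z = 0) ↔
    ((j.1.1 : ℤ) ∣ z ∧ _) ∧ ((k.1.1 : ℤ) ∣ z ∧ _)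
  rw [Int.natCast_dvd, Nat.lcm_dvd_iff, ← Int.natCast_dvd, ← Int.natCast_dvd]
  constructor
  · rintro ⟨⟨h1, h2⟩, h3⟩
    exact ⟨⟨h1, fun h => h3 fun h' => h h'.1⟩, h2, fun h => h3 fun h' => h h'.2⟩
  · rintro ⟨⟨h1, h2⟩, h3, h4⟩
    exact ⟨⟨h1, h3⟩, fun h => (not_and_or.1 h).elim h2 h4⟩

theorem sup_inf_int (a b c : AddSubgroup ℤ) : (a ⊔ b) ⊓ c = (a ⊓ c) ⊔ (b ⊓ c) := by
  refine le_antisymm ?_ (sup_le (inf_le_inf_right c le_sup_left) (inf_le_inf_right c le_sup_right))
  obtain ⟨p, hp⟩ := Int.subgroup_cyclic a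
  obtain ⟨q, hq⟩ := Int.subgroup_cyclic b
  rw [← AddSubgroup.zmultiples_eq_closure] at hp hq
  subst hp hq
  rintro x ⟨hx, hxc'⟩
  have hxc : x ∈ c := hxc'
  obtain ⟨y, hy, z, hz, rfl⟩ := AddSubgroup.mem_sup.1 hx
  obtain ⟨m, rfl⟩ := Int.mem_zmultiples_iff.1 hy
  obtain ⟨n, rfl⟩ := Int.mem_zmultiples_iff.1 hz
  rcases eq_or_ne ((Int.gcd p q : ℕ) : ℤ) 0 with hg | hg
  · obtain ⟨rfl, rfl⟩ := Int.gcd_eq_zero_iff.1 (by exact_mod_cast hg)
    simp
  obtain ⟨p', hp'⟩ : ((Int.gcd p q : ℕ) : ℤ) ∣ p := Int.gcd_dvd_left p q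
  obtain ⟨q', hq'⟩ : ((Int.gcd p q : ℕ) : ℤ) ∣ q := Int.gcd_dvd_right p q
  have hbez := Int.gcd_eq_gcd_ab p q
  generalize ((Int.gcd p q : ℕ) : ℤ) = g at hg hp' hq' hbez
  subst hp' hq'
  have h1 : p' * Int.gcdA (g * p') (g * q') + q' * Int.gcdB (g * p') (g * q') = 1 :=
    mul_left_cancel₀ hg (by linear_combination -hbez)
  set A := Int.gcdA (g * p') (g * q')
  set B := Int.gcdB (g * p') (g * q')
  refine AddSubgroup.mem_sup.2 ⟨(p' * A) • (g * p' * m + g * q' * n),
    ⟨Int.mem_zmultiples_iff.2 ⟨A * (p' * m + q' * n), by rw [smul_eq_mul]; ring⟩, zsmul_mem hxc _⟩,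
    (q' * B) • (g * p' * m + g * q' * n),
    ⟨Int.mem_zmultiples_iff.2 ⟨B * (p' * m + q' * n), by rw [smul_eq_mul]; ring⟩, zsmul_mem hxc _⟩, ?_⟩
  rw [← add_zsmul, h1, one_zsmul]

theorem finsetSup_inf_int {κ : Type*} (T : Finset κ) (a : κ → AddSubgroup ℤ) (c : AddSubgroup ℤ) :
    T.sup a ⊓ c = T.sup fun j => a j ⊓ c := by
  classical
  induction T using Finset.induction with
  | empty => simp
  | insert i T _ ih => rw [Finset.sup_insert, Finset.sup_insert, sup_inf_int, ih]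

/-- The sum of elementary subsheaves. -/
def sumMap (T : Finset (Gen U)) : (⨁ fun j : T => Z j.1.1.2) ⟶ Z U :=
  biproduct.desc fun j : T => gmap j.1

theorem val_sumMap (T : Finset (Gen U)) (x : X) : val U (sumMap T) x = T.sup fun j => gval j x := by
  rw [sumMap, val_biproduct_desc, Finset.sup_eq_iSup]
  simp only [val_gmap]
  exact iSup_subtype'' (T : Set (Gen U)) fun j => gval j x

end Sub

end

end Groth.Agent.ExtZeroVan
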