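import Groth.Agent.ExtZeroVanLib.Basic

/-!
# Unions of good subsheaves
-/

set_option autoImplicit false
set_option linter.style.haveILetI false
set_option linter.unusedSectionVars false
set_option backward.isDefEq.respectTransparency false
set_option backward.isDefEq.respectTransparency.types false
universe u

open CategoryTheory Limits Opposite TopologicalSpace Abelian

namespace Groth.Agent.ExtZeroVan

noncomputable section

attribute [local instance] Abelian.hasFiniteBiproducts

variable {X : TopCat.{u}} (d : ℕ)

section Colim

/-- A sheaf covered by a family with good finite images is good. -/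
theorem good_of_family [CompactSpace X] [PrespectralSpace X] [QuasiSeparatedSpace X]
    {F : CohTop.Ab X} {I : Type u} (G : I → CohTop.Ab X) (g : ∀ i, G i ⟶ F)
    (hg : ∀ {T : CohTop.Ab X} (h : F ⟶ T), (∀ i, g i ≫ h = 0) → h = 0)
    (hfin : ∀ s : Finset I, Good d (Abelian.image (biproduct.desc fun i : s => g i))) :
    Good d F := by
  classical
  let φ := fun s : Finset I => biproduct.desc fun i : s => g i
  have hle : ∀ {s t : Finset I} (_ : s ≤ t), Abelian.image.ι (φ s) ≫ cokernel.π (φ t) = 0 :=
    fun {s t} h => by
      have e : φ s = biproduct.desc (fun i : s => biproduct.ι (fun i : t => G i) ⟨i, h i.2⟩) ≫ φ t :=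
        biproduct.hom_ext' _ _ fun i => by simp [φ]
      rw [← cancel_epi (Abelian.factorThruImage (φ s)), ← Category.assoc, Abelian.image.fac, e, Category.assoc,
        cokernel.condition, comp_zero, comp_zero]
  let D : Finset I ⥤ CohTop.Ab X :=
    { obj := fun s => Abelian.image (φ s)
      map := fun {s t} h => kernel.lift _ _ (hle (leOfHom h))
      map_id := fun s => by rw [← cancel_mono (Abelian.image.ι _)]; simp
      map_comp := fun f g => by rw [← cancel_mono (Abelian.image.ι _)]; simp }
  let c : Cocone D :=
    { pt := F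
      ι := { app := fun s => Abelian.image.ι (φ s)
             naturality := fun s t h => by simp [D] } }
  let ρ := colimit.desc D c
  haveI : ∀ j, Mono (c.ι.app j) := fun j => inferInstanceAs (Mono (Abelian.image.ι (φ j)))
  haveI : Mono c.ι := NatTrans.mono_of_mono_app c.ι
  haveI : IsConnected (Finset I) := IsFiltered.isConnected _
  haveI : Mono ρ := colim.map_mono' c.ι (colimit.isColimit D)
    (isColimitConstCocone (Finset I) F) ρ (fun j => by simp [ρ, c, constCocone])
  haveI : Epi ρ := Preadditive.epi_of_cancel_zero _ fun {T} h hh => hg h fun i => by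
    have e : g i = biproduct.ι (fun j : ({i} : Finset I) => G j) ⟨i, Finset.mem_singleton_self i⟩ ≫
        Abelian.factorThruImage (φ {i}) ≫ colimit.ι D {i} ≫ ρ := by
      rw [colimit.ι_desc]
      show _ = _ ≫ _ ≫ Abelian.image.ι _
      rw [Abelian.image.fac]
      simp [φ]
    rw [e, Category.assoc, Category.assoc, Category.assoc, hh, comp_zero, comp_zero, comp_zero]
  haveI : IsIso ρ := isIso_of_mono_of_epi ρ
  refine good_of_iso d (asIso ρ) fun p hp => ?_
  haveI : PreservesColimit D ((Sheaf.cohomologyPresheafFunctor (Opens.grothendieckTopology X) p).flip.obj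
      (op (⊤ : Opens X)) : CohTop.Ab X ⥤ AddCommGrpCat.{u}) :=
    (CohColim.preserves_cohomology_compactOpen (X := X) (⊤ : Opens X) isCompact_univ p (Finset I)).preservesColimit
  obtain ⟨hs, -⟩ := CohColim.exists_of_preservesColimit
    ((Sheaf.cohomologyPresheafFunctor (Opens.grothendieckTopology X) p).flip.obj (op (⊤ : Opens X)) :
      CohTop.Ab X ⥤ AddCommGrpCat.{u}) D
  refine (CohBase.HEquiv (colimit D) p).toEquiv.subsingleton_congr.2
    (subsingleton_of_forall_eq 0 fun x => ?_)
  obtain ⟨s, y, rfl⟩ := hs x
  haveI := hfin s p hp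
  haveI : Subsingleton (CohBase.HU (⊤ : Opens X) (D.obj s) p) :=
    (CohBase.HEquiv (D.obj s) p).toEquiv.subsingleton_congr.1 (hfin s p hp)
  rw [show y = 0 from Subsingleton.elim (α := CohBase.HU (⊤ : Opens X) (D.obj s) p) y 0]
  exact map_zero _

end Colim

end

end Groth.Agent.ExtZeroVan
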