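import Groth.Agent.ExtZeroVanLib.Sums
import Groth.Agent.ExtZeroVanLib.Family

/-!
# Vanishing of cohomology from vanishing on extensions by zero
-/

set_option autoImplicit false
set_option linter.style.haveILetI false
set_option linter.unusedSectionVars false
set_option backward.isDefEq.respectTransparency false
set_option backward.isDefEq.respectTransparency.types false
universe u

open CategoryTheory Limits Opposite TopologicalSpace Abelian

namespace Groth.Agent.ExtZeroVan

noncomputable section

attribute [local instance] Abelian.hasFiniteBiproducts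

variable {X : TopCat.{u}} (d : ℕ)

variable [CompactSpace X] [PrespectralSpace X] [QuasiSeparatedSpace X]
  (hZ : ∀ V : Opens X, IsCompact (V : Set X) → Good d (Z V))

include hZ in
/-- Subsheaves of `ℤ_U` are good. -/
theorem good_of_mono {U : Opens X} {K : CohTop.Ab X} (i : K ⟶ Z U) [Mono i] : Good d K := by
  classical
  let I := {j : Gen U // ∀ x, gval j x ≤ val U i x}
  let G : I → CohTop.Ab X := fun j => Z j.1.1.2
  have hc : ∀ j : I, gmap j.1 ≫ cokernel.π i = 0 := fun j =>
    comp_cokernel_eq_zero _ _ fun x => by rw [val_gmap]; exact j.2 x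
  let g : ∀ j : I, G j ⟶ K := fun j =>
    Abelian.monoLift i (gmap j.1) (hc j)
  have hgi : ∀ j : I, g j ≫ i = gmap j.1 := fun j => Abelian.monoLift_comp _ _ _
  refine good_of_family d G g (fun {T} h hh => ?_) fun s => ?_
  · ext W a
    refine TopCat.Presheaf.section_ext (F := (T : TopCat.Sheaf AddCommGrpCat X)) W.unop _ 0
      fun x hx => ?_
    obtain ⟨W₁, hW, hxW₁, hrep⟩ := exists_rep hx (i.hom.app W a)
    let a₁ := K.obj.map (homOfLE hW).op a
    have hinj : Function.Injective ((i.hom.app (op W₁))) := GrothVan.mono_app i W₁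
    have hfin' : ∀ (V : Opens X) (hV : V ≤ W₁), x ∈ V →
        h.hom.app (op V) (K.obj.map (homOfLE hV).op a₁) = 0 →
        (TopCat.Presheaf.germ T.obj W.unop x hx) (h.hom.app W a) =
          (TopCat.Presheaf.germ T.obj W.unop x hx) 0 := fun V hV hxV h0 => by
      refine TopCat.Presheaf.germ_ext (F := T.obj) V hxV (homOfLE (hV.trans hW))
        (homOfLE (hV.trans hW)) ?_
      rw [← NatTrans.naturality_apply, map_zero]
      have ha : K.obj.map (homOfLE hV).op a₁ = K.obj.map (homOfLE (hV.trans hW)).op a := by
        show K.obj.map (homOfLE hV).op (K.obj.map (homOfLE hW).op a) = _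
        rw [← ConcreteCategory.comp_apply, ← Functor.map_comp]
        rfl
      rw [ha] at h0
      exact h0
    obtain ⟨hWU, n, e⟩ | e := hrep
    · by_cases hn : n = 0
      · refine hfin' W₁ le_rfl hxW₁ ?_
        have : a₁ = 0 := hinj (by
          rw [map_zero, NatTrans.naturality_apply, e, hn, zero_zsmul])
        rw [this, map_zero, map_zero]
      obtain ⟨V, ⟨hVo, hVc⟩, hxV, hVW⟩ :=
        (PrespectralSpace.isTopologicalBasis (X := X)).exists_subset_of_mem_open hxW₁ W₁.isOpen
      let j : Gen U := ⟨(n.natAbs, ⟨V, hVo⟩), Int.natAbs_pos.2 hn, le_trans hVW hWU, hVc⟩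
      have hj : ∀ y, gval j y ≤ val U i y := by
        rintro y z ⟨hz, hz0⟩
        by_cases hy : y ∈ V
        · obtain ⟨k, rfl⟩ := Int.natAbs_dvd.1 hz
          rw [mul_comm, ← smul_eq_mul]
          refine zsmul_mem ?_ k
          refine ⟨W₁, hVW hy, a₁, ?_⟩
          rw [NatTrans.naturality_apply, e, map_zsmul, ev_res hWU (hVW hy), ev_unit]
          simp
        · rw [hz0 hy]; exact zero_mem _
      refine hfin' ⟨V, hVo⟩ hVW hxV ?_
      have e2 : (g ⟨j, hj⟩).hom.app (op (⟨V, hVo⟩ : Opens X))
          ((n.sign) • unit (⟨V, hVo⟩ : Opens X)) =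
          K.obj.map (homOfLE (show (⟨V, hVo⟩ : Opens X) ≤ W₁ from hVW)).op a₁ := by
        apply GrothVan.mono_app i
        have h1 := congrArg (fun f : Z j.1.2 ⟶ Z U => f.hom.app (op (⟨V, hVo⟩ : Opens X))
          ((n.sign) • unit (⟨V, hVo⟩ : Opens X))) (hgi ⟨j, hj⟩)
        refine h1.trans ?_
        refine sub_eq_zero.1 (eq_zero_of_ev _ fun y hy => ?_)
        rw [map_sub, ev_gmap, map_zsmul, ev_unit, NatTrans.naturality_apply, ev_res hVW hy,
          NatTrans.naturality_apply, e, map_zsmul, ev_res hWU (hVW hy), ev_unit]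
        simp [j, mul_comm |n| n.sign, Int.sign_mul_abs]
      rw [← e2]
      show (g ⟨j, hj⟩ ≫ h).hom.app _ _ = 0
      rw [hh]
      rfl
    · refine hfin' W₁ le_rfl hxW₁ ?_
      have : a₁ = 0 := hinj (by rw [map_zero, NatTrans.naturality_apply, e])
      rw [this, map_zero, map_zero]
  · let f := biproduct.desc fun j : s => g j
    let S := s.image Subtype.val
    have e : ∀ x, val U (Abelian.image.ι f ≫ i) x = val U (sumMap S) x := fun x => by
      have e1 : val U (Abelian.image.ι f ≫ i) x = val U (f ≫ i) x := by
        refine le_antisymm ?_ ?_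
        · have h := val_le_comp (Abelian.factorThruImage f) (Abelian.image.ι f ≫ i) x
          rwa [← Category.assoc, Abelian.image.fac] at h
        · conv_lhs => rw [← Abelian.image.fac f, Category.assoc]
          exact val_comp_le _ _ x
      have e2 : f ≫ i = biproduct.desc fun j : s => gmap j.1.1 :=
        biproduct.hom_ext' _ _ fun j => by simp [f, hgi]
      rw [e1, e2, val_biproduct_desc, val_sumMap, Finset.sup_image]
      simp only [val_gmap, Function.comp_def, Finset.sup_eq_iSup]
      exact iSup_subtype'' (s : Set I) fun j => gval j.1 x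
    exact good_of_iso d (asIso (Abelian.factorThruImage (Abelian.image.ι f ≫ i))).symm
      (good_image_of_val_eq d _ _ e (good_sumMap d hZ S.card S le_rfl))

include hZ in
/-- All sheaves are good. -/
theorem good_all (F : CohTop.Ab X) : Good d F := by
  classical
  let I := Σ U : {U : Opens X // IsCompact (U : Set X)}, (F.obj.obj (op U.1) : Type u)
  let g : ∀ j : I, Z j.1.1 ⟶ F := fun j => (SiteBase.secEquiv j.1.1 F).symm j.2
  refine good_of_family d _ g (fun {T} h hh => ?_) fun s => ?_
  · ext W a
    refine TopCat.Presheaf.section_ext (F := (T : TopCat.Sheaf AddCommGrpCat X)) W.unop _ 0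
      fun x hx => ?_
    obtain ⟨V, ⟨hVo, hVc⟩, hxV, hVW⟩ :=
      (PrespectralSpace.isTopologicalBasis (X := X)).exists_subset_of_mem_open hx W.unop.isOpen
    refine TopCat.Presheaf.germ_ext (F := T.obj) ⟨V, hVo⟩ hxV (homOfLE hVW) (homOfLE hVW) ?_
    rw [← NatTrans.naturality_apply, map_zero]
    have h0 := congrArg (SiteBase.secEquiv (⟨V, hVo⟩ : Opens X) T)
      (hh ⟨⟨⟨V, hVo⟩, hVc⟩, F.obj.map (homOfLE hVW).op a⟩)
    rw [SiteBase.secEquiv_comp, Equiv.apply_symm_apply] at h0
    refine h0.trans ?_
    rw [← comp_zero (X := Z (⟨V, hVo⟩ : Opens X)) (f := (0 : _ ⟶ F)) (Z := T), SiteBase.secEquiv_comp]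
    rfl
  · let f := biproduct.desc fun j : s => g j
    have hsub : ∀ (t : Finset s) {K : CohTop.Ab X} (k : K ⟶ ⨁ fun j : s => Z j.1.1.1), Mono k →
        (∀ j, j ∉ t → k ≫ biproduct.π _ j = 0) → Good d K := by
      intro t
      induction t using Finset.induction with
      | empty =>
        intro K k _ hk
        have : k = 0 := biproduct.hom_ext _ _ fun j => by
          rw [hk j (Finset.notMem_empty j), zero_comp]
        exact good_of_isZero d ((IsZero.iff_id_eq_zero _).2 (by
          rw [← cancel_mono k]; simp [this]))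
      | @insert a t _ ih =>
        intro K k _ hk
        let q := k ≫ biproduct.π _ a
        refine good_X₂ d (shortExact_image q) (ih (kernel.ι q ≫ k) inferInstance fun j hj => ?_)
          (good_of_mono d hZ (Abelian.image.ι q))
        by_cases hja : j = a
        · subst hja
          exact (Category.assoc _ _ _).trans (kernel.condition q)
        · exact (Category.assoc _ _ _).trans
            ((congrArg (kernel.ι q ≫ ·) (hk j (by simp [hja, hj]))).trans comp_zero)
    exact good_X₃ d (shortExact_image f)
      (hsub Finset.univ (kernel.ι f) inferInstance fun j hj => absurd (Finset.mem_univ j) hj)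
      (good_biproduct d _ fun j => hZ _ j.1.1.2)


end

end Groth.Agent.ExtZeroVan
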