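import Groth.Agent.ExtZeroVanLib.Basic

/-!
# Finitely generated subsheaves of ℤ_U
-/

set_option autoImplicit false
set_option linter.style.haveILetI false
set_option linter.unusedSectionVars false
set_option backward.isDefEq.respectTransparency false
set_option backward.isDefEq.respectTransparency.types false
universe u

open CategoryTheory Limits Opposite TopologicalSpace Abelian

namespace Groth.Agent.ExtZeroVan

noncomputable section

attribute [local instance] Abelian.hasFiniteBiproducts

variable {X : TopCat.{u}} (d : ℕ)

section Sub

variable {U : Opens X}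

variable [QuasiSeparatedSpace X]
  (hZ : ∀ V : Opens X, IsCompact (V : Set X) → Good d (Z V))

include hZ in
/-- Finitely generated subsheaves of `ℤ_U`. -/
theorem good_sumMap : ∀ (n : ℕ) (T : Finset (Gen U)), T.card ≤ n →
    Good d (Abelian.image (sumMap T)) := by
  classical
  have h0 : ∀ T : Finset (Gen U), T = ∅ → Good d (Abelian.image (sumMap T)) := fun T hT => by
    subst hT
    have hz : sumMap (∅ : Finset (Gen U)) = 0 :=
      biproduct.hom_ext' _ _ fun j => absurd j.2 (Finset.notMem_empty _)
    refine good_of_isZero d ((IsZero.iff_id_eq_zero _).2 ?_)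
    rw [← cancel_mono (Abelian.image.ι _), ← cancel_epi (Abelian.factorThruImage _)]
    simp [Abelian.image.fac, hz]
  intro n
  induction n with
  | zero => exact fun T hT => h0 T (Finset.card_eq_zero.1 (Nat.le_zero.1 hT))
  | succ n ih =>
    intro T hT
    rcases T.eq_empty_or_nonempty with hT0 | ⟨a, ha⟩
    · exact h0 T hT0
    let T' := T.erase a
    have hT' : T'.card ≤ n := by
      rw [Finset.card_erase_of_mem ha]
      omega
    let i := Abelian.image.ι (sumMap T')
    let l := gmap a
    haveI : Mono l := mono_gmap a
    let dl := biprod.desc i l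
    let h := kernel.ι dl ≫ biprod.fst ≫ i
    haveI : Mono (kernel.ι dl ≫ biprod.fst) := Preadditive.mono_of_cancel_zero _ fun {A} g hg => by
      have hg' : (g ≫ kernel.ι dl) ≫ biprod.fst = 0 := (Category.assoc _ _ _).trans hg
      have e := biprod_desc_eq' i l (g ≫ kernel.ι dl)
      rw [show (g ≫ kernel.ι dl) ≫ biprod.desc i l = 0 by
        rw [Category.assoc]; exact (congrArg (g ≫ ·) (kernel.condition dl)).trans comp_zero,
        hg', zero_comp, zero_add] at e
      have e' : (g ≫ kernel.ι dl) ≫ biprod.snd = 0 := zero_of_comp_mono l e.symm
      rw [← cancel_mono (kernel.ι dl), zero_comp]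
      exact biprod.hom_ext _ _ (by rw [hg', zero_comp]) (by rw [e', zero_comp])
    haveI : Mono i := inferInstanceAs (Mono (Abelian.image.ι (sumMap T')))
    haveI : Mono h := by
      rw [show h = (kernel.ι dl ≫ biprod.fst) ≫ i from (Category.assoc _ _ _).symm]
      exact mono_comp _ _
    have hh : ∀ x, val U h x = val U (sumMap (T'.image fun j => inter j a)) x := fun x => by
      rw [val_sumMap, Finset.sup_image]
      simp only [Function.comp_def, gval_inter]
      rw [← finsetSup_inf_int, ← val_sumMap, ← val_gmap]
      exact (val_kernel_desc i l x).trans (congrArg (· ⊓ _) (val_image _ x))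
    have hK : Good d (kernel dl) := by
      haveI : IsIso (Abelian.factorThruImage h) := inferInstance
      exact good_of_iso d (asIso (Abelian.factorThruImage h)).symm
        (good_image_of_val_eq d h _ hh (ih _ (Finset.card_image_le.trans hT')))
    have hI : Good d (Abelian.image dl) :=
      good_X₃ d (shortExact_image dl) hK (good_biprod d (ih T' hT') (hZ _ a.2.2.2))
    refine good_image_of_val_eq d _ dl (fun x => ?_) hI
    rw [val_sumMap, val_biprod_desc, val_image, val_sumMap, val_gmap, sup_comm, ← Finset.insert_erase ha,
      Finset.sup_insert]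


end Sub

end

end Groth.Agent.ExtZeroVan
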