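import Groth.Agent.SiteBase.Basic
import Groth.Agent.GrothVan.Main
import Groth.Prelude.Def_CohTop
import Mathlib.Topology.Sheaves.SheafOfFunctions
import Mathlib.Topology.Sheaves.Stalks

/-!
# Values of the sections of the extension by zero of `ℤ`
-/

set_option autoImplicit false
set_option linter.style.haveILetI false
set_option linter.unusedSectionVars false
set_option backward.isDefEq.respectTransparency false
set_option backward.isDefEq.respectTransparency.types false
universe u

open CategoryTheory Limits Opposite TopologicalSpace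

namespace Groth.Agent.ExtZeroVan

noncomputable section

variable {X : TopCat.{u}}

/-- The extension by zero of `ℤ`. -/
abbrev Z (U : Opens X) : CohTop.Ab X := SiteBase.freeAb (Opens.grothendieckTopology X) U

/-- The presheaf of integer valued functions. -/
def funPre : (Opens X)ᵒᵖ ⥤ AddCommGrpCat.{u} where
  obj W := AddCommGrpCat.of (W.unop → ULift.{u} ℤ)
  map i := AddCommGrpCat.ofHom
    { toFun := fun f x => f (i.unop x)
      map_zero' := rfl
      map_add' := fun _ _ => rfl }

/-- The sheaf of integer valued functions. -/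
def funSh : CohTop.Ab X :=
  ⟨funPre, (Presheaf.isSheaf_iff_isSheaf_comp (Opens.grothendieckTopology X) funPre
    (forget AddCommGrpCat.{u})).2 (TopCat.Presheaf.toType_isSheaf X (ULift.{u} ℤ))⟩

variable (U : Opens X)

/-- The values of the sections of `ℤ_U`. -/
def ψ : Z U ⟶ funSh := (SiteBase.secEquiv U funSh).symm fun _ => ⟨1⟩

/-- The unit section. -/
def unit : (Z U).obj.obj (op U) := SiteBase.secEquiv U (Z U) (𝟙 _)

variable {U}

/-- The value at a point of a section. -/
def ev {W : Opens X} {x : X} (hx : x ∈ W) : (Z U).obj.obj (op W) →+ ℤ :=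
  AddMonoidHom.mk' (fun s => (((ψ U).hom.app (op W) s : W → ULift.{u} ℤ) ⟨x, hx⟩).down)
    fun s t => by
      rw [map_add]
      rfl

theorem ev_res {W W' : Opens X} (h : W' ≤ W) {x : X} (hx : x ∈ W') (s : (Z U).obj.obj (op W)) :
    ev hx ((Z U).obj.map (homOfLE h).op s) = ev (U := U) (h hx) s := by
  show (((ψ U).hom.app (op W') _ : W' → ULift.{u} ℤ) ⟨x, hx⟩).down = _
  rw [NatTrans.naturality_apply]
  rfl

theorem ev_unit {x : X} (hx : x ∈ U) : ev hx (unit U) = 1 := by
  show (((ψ U).hom.app (op U) _ : U → ULift.{u} ℤ) ⟨x, hx⟩).down = _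
  rw [unit, ← SiteBase.secEquiv_comp, Category.id_comp, ψ, Equiv.apply_symm_apply]

theorem toSheafify_of {W : Opens X} (h : W ⟶ U) :
    (toSheafify (Opens.grothendieckTopology X) (yoneda.obj U ⋙ AddCommGrpCat.free.{u})).app (op W)
      (FreeAbelianGroup.of h) = (Z U).obj.map h.op (unit U) := by
  have e : unit U = (toSheafify (Opens.grothendieckTopology X)
      (yoneda.obj U ⋙ AddCommGrpCat.free.{u})).app (op U) (FreeAbelianGroup.of (𝟙 U)) := by
    simp [unit, SiteBase.secEquiv, Adjunction.homEquiv_unit, yonedaEquiv]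
    rfl
  rw [e]
  refine Eq.trans ?_ (NatTrans.naturality_apply _ h.op _)
  congr 1

/-- Sections are locally multiples of the unit section. -/
theorem exists_rep {W : Opens X} {x : X} (hx : x ∈ W) (s : (Z U).obj.obj (op W)) :
    ∃ (W' : Opens X) (hW : W' ≤ W), x ∈ W' ∧
      ((∃ (h : W' ≤ U) (n : ℤ), (Z U).obj.map (homOfLE hW).op s =
        n • (Z U).obj.map (homOfLE h).op (unit U)) ∨ (Z U).obj.map (homOfLE hW).op s = 0) := by
  let P := yoneda.obj U ⋙ AddCommGrpCat.free.{u}
  let η := toSheafify (Opens.grothendieckTopology X) P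
  obtain ⟨W', i, ⟨a, ha⟩, hxW'⟩ :=
    Presheaf.imageSieve_mem (Opens.grothendieckTopology X) η (U := op W) s x hx
  refine ⟨W', leOfHom i, hxW', ?_⟩
  rw [show (Z U).obj.map (homOfLE (leOfHom i)).op s = η.app (op W') a from ha.symm]
  by_cases h : W' ≤ U
  · refine Or.inl ⟨h, ?_⟩
    suffices H : ∀ b : FreeAbelianGroup (W' ⟶ U), ∃ n : ℤ, η.app (op W') b =
        n • (Z U).obj.map (homOfLE h).op (unit U) from H a
    intro b
    induction b using FreeAbelianGroup.induction_on with
    | zero => exact ⟨0, (map_zero _).trans (zero_zsmul _).symm⟩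
    | of k =>
      refine ⟨1, (toSheafify_of k).trans ?_⟩
      rw [one_zsmul, Subsingleton.elim k (homOfLE h)]
    | neg k hk =>
      obtain ⟨n, hn⟩ := hk
      exact ⟨-n, (map_neg _ _).trans ((congrArg Neg.neg hn).trans (neg_zsmul _ n).symm)⟩
    | add p q hp hq =>
      obtain ⟨n, hn⟩ := hp
      obtain ⟨m, hm⟩ := hq
      exact ⟨n + m, (map_add _ _ _).trans ((congrArg₂ (· + ·) hn hm).trans (add_zsmul _ n m).symm)⟩
  · refine Or.inr ?_
    suffices H : ∀ b : FreeAbelianGroup (W' ⟶ U), b = 0 from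
      (congrArg _ (H a)).trans (map_zero _)
    intro b
    induction b using FreeAbelianGroup.induction_on with
    | zero => rfl
    | of k => exact absurd (leOfHom k) h
    | neg k hk => exact absurd (leOfHom k) h
    | add p q hp hq => simp [hp, hq]

theorem ev_locallyConstant {W : Opens X} {x : X} (hx : x ∈ W) (s : (Z U).obj.obj (op W)) :
    ∃ (W' : Opens X) (hW : W' ≤ W), x ∈ W' ∧ ∀ (y : X) (hy : y ∈ W'),
      ev (hW hy) s = ev (U := U) hx s := by
  obtain ⟨W', hW, hxW', h | h⟩ := exists_rep hx s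
  · obtain ⟨h, n, e⟩ := h
    have key : ∀ (y : X) (hy : y ∈ W'), ev (hW hy) s = n := fun y hy => by
      rw [← ev_res hW hy, e, map_zsmul, ev_res h hy, ev_unit]
      simp
    exact ⟨W', hW, hxW', fun y hy => (key y hy).trans (key x hxW').symm⟩
  · have key : ∀ (y : X) (hy : y ∈ W'), ev (hW hy) s = 0 := fun y hy => by
      rw [← ev_res hW hy, h, map_zero]
    exact ⟨W', hW, hxW', fun y hy => (key y hy).trans (key x hxW').symm⟩

theorem ev_eq_zero_of_not_mem {W : Opens X} {x : X} (hx : x ∈ W) (h : x ∉ U)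
    (s : (Z U).obj.obj (op W)) : ev hx s = 0 := by
  obtain ⟨W', hW, hxW', ⟨h', -⟩ | h'⟩ := exists_rep hx s
  · exact absurd (h' hxW') h
  · rw [← ev_res hW hxW', h', map_zero]

theorem eq_zero_of_ev {W : Opens X} (s : (Z U).obj.obj (op W))
    (h : ∀ (x : X) (hx : x ∈ W), ev hx s = 0) : s = 0 := by
  refine TopCat.Presheaf.section_ext (F := (Z U : TopCat.Sheaf AddCommGrpCat X)) W s 0 fun x hx => ?_
  obtain ⟨W', hW, hxW', he⟩ := exists_rep hx s
  refine TopCat.Presheaf.germ_ext (F := (Z U).obj) W' hxW' (homOfLE hW) (homOfLE hW) ?_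
  refine Eq.trans ?_ (map_zero _).symm
  obtain ⟨h', n, e⟩ | e := he
  · have hn : n = 0 := by
      have := congrArg (ev hxW') e
      rw [ev_res hW hxW', h x (hW hxW'), map_zsmul, ev_res h' hxW', ev_unit] at this
      simpa using this.symm
    exact e.trans (by rw [hn, zero_zsmul])
  · exact e

/-- Sections with equal values at a point agree near it. -/
theorem exists_eq_of_ev {W : Opens X} {x : X} (hx : x ∈ W) (s t : (Z U).obj.obj (op W))
    (h : ev hx s = ev hx t) :
    ∃ (W' : Opens X) (hW : W' ≤ W), x ∈ W' ∧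
      (Z U).obj.map (homOfLE hW).op s = (Z U).obj.map (homOfLE hW).op t := by
  obtain ⟨W', hW, hxW', hc⟩ := ev_locallyConstant hx (s - t)
  refine ⟨W', hW, hxW', sub_eq_zero.1 ((map_sub _ _ _).symm.trans (eq_zero_of_ev _ fun y hy => ?_))⟩
  rw [ev_res hW hy, hc y hy, map_sub, h, sub_self]

variable (U) in
/-- The values of a map into `ℤ_U`. -/
def val {A : CohTop.Ab X} (f : A ⟶ Z U) (x : X) : AddSubgroup ℤ where
  carrier := {n | ∃ (W : Opens X) (hx : x ∈ W) (s : A.obj.obj (op W)),
    ev hx (f.hom.app (op W) s) = n}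
  zero_mem' := ⟨⊤, trivial, 0, by rw [map_zero, map_zero]⟩
  add_mem' := by
    rintro _ _ ⟨W, hx, s, rfl⟩ ⟨W', hx', s', rfl⟩
    refine ⟨W ⊓ W', ⟨hx, hx'⟩, A.obj.map (homOfLE inf_le_left).op s +
      A.obj.map (homOfLE inf_le_right).op s', ?_⟩
    rw [map_add, map_add, NatTrans.naturality_apply, NatTrans.naturality_apply, ev_res inf_le_left,
      ev_res inf_le_right]
  neg_mem' := by
    rintro _ ⟨W, hx, s, rfl⟩
    exact ⟨W, hx, -s, by rw [map_neg, map_neg]⟩

theorem val_comp_le {A B : CohTop.Ab X} (g : A ⟶ B) (f : B ⟶ Z U) (x : X) :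
    val U (g ≫ f) x ≤ val U f x := by
  rintro _ ⟨W, hx, s, rfl⟩
  exact ⟨W, hx, g.hom.app _ s, rfl⟩

theorem val_le_comp {A B : CohTop.Ab X} (g : A ⟶ B) [Epi g] (f : B ⟶ Z U) (x : X) :
    val U f x ≤ val U (g ≫ f) x := by
  rintro _ ⟨W, hx, s, rfl⟩
  obtain ⟨V, hle, a, hxV, ha⟩ := GrothVan.exists_local_preimage g W s hx
  refine ⟨V, hxV, a, ?_⟩
  show ev hxV (f.hom.app _ (g.hom.app _ a)) = _
  rw [ha, NatTrans.naturality_apply, ev_res hle]

/-- Comparison of images through the values. -/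
theorem comp_cokernel_eq_zero {A B : CohTop.Ab X} (f : A ⟶ Z U) (g : B ⟶ Z U)
    (h : ∀ x, val U f x ≤ val U g x) : f ≫ cokernel.π g = 0 := by
  ext W s
  refine TopCat.Presheaf.section_ext (F := (cokernel g : TopCat.Sheaf AddCommGrpCat X)) W.unop _ 0
    fun x hx => ?_
  obtain ⟨W', hx', t, ht⟩ := h x ⟨W.unop, hx, s, rfl⟩
  obtain ⟨V, hV, hxV, e⟩ := exists_eq_of_ev (show x ∈ W.unop ⊓ W' from ⟨hx, hx'⟩)
    ((Z U).obj.map (homOfLE inf_le_left).op (f.hom.app W s))
    ((Z U).obj.map (homOfLE inf_le_right).op (g.hom.app _ t))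
    (by rw [ev_res inf_le_left, ev_res inf_le_right]; exact ht.symm)
  refine TopCat.Presheaf.germ_ext (F := (cokernel g).obj) V hxV
    (homOfLE (hV.trans inf_le_left)) (homOfLE (hV.trans inf_le_left)) ?_
  show (cokernel g).obj.map _ ((cokernel.π g).hom.app W (f.hom.app W s)) = _
  rw [← NatTrans.naturality_apply]
  refine Eq.trans ?_ (map_zero _).symm
  have e' : (Z U).obj.map (homOfLE (hV.trans inf_le_left)).op (f.hom.app W s) =
      g.hom.app _ (B.obj.map (homOfLE (hV.trans inf_le_right)).op t) := by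
    rw [NatTrans.naturality_apply]
    have hm : ∀ {W₁ : Opens X} (h₁ : V ≤ W₁) {W₂ : Opens X} (h₂ : W₁ ≤ W₂) (r : (Z U).obj.obj (op W₂)),
        (Z U).obj.map (homOfLE h₁).op ((Z U).obj.map (homOfLE h₂).op r) =
          (Z U).obj.map (homOfLE (h₁.trans h₂)).op r := fun h₁ _ h₂ r => by
      rw [← ConcreteCategory.comp_apply, ← Functor.map_comp]
      rfl
    rw [hm, hm] at e
    exact e
  rw [e']
  show (g ≫ cokernel.π g).hom.app (op V) _ = 0
  rw [cokernel.condition]
  rfl

end

end Groth.Agent.ExtZeroVan
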